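import Cfsg.Agent.Lib.Helper60.GL42.Core

/-!
Generated certificates: for every packed matrix `c` of order 5 a word in `c` and the fixed
element `b0c` of order 7 that fixes the vector `uC` and moves `x1C` into the other orbit of
`b0c`.
-/

set_option autoImplicit false

namespace Cfsg.Agent.Lib.Helper60.GL42

/-- the fixed element of order 7 -/
def b0c : ℕ := 4702
/-- its inverse -/
def b0ic : ℕ := 64072
/-- the vector fixed by `b0c` -/
def uC : ℕ := 13
/-- base point of the first orbit of `b0c` -/
def x1C : ℕ := 1

/-- membership in the second orbit of `b0c` -/
def inO2 (m : ℕ) : Bool := m == 2 || m == 3 || m == 4 || m == 5 || m == 10 || m == 11 || m == 12

/-- fifth power of the action -/
def pw5 (c x : ℕ) : ℕ := actC c (actC c (actC c (actC c (actC c x))))

/-- the packed matrix has order 5 -/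
def ord5 (c : ℕ) : Bool :=
  pw5 c 1 == 1 && pw5 c 2 == 2 && pw5 c 4 == 4 && pw5 c 8 == 8 &&
    !(actC c 1 == 1 && actC c 2 == 2 && actC c 4 == 4 && actC c 8 == 8)

/-- evaluate a word (`true` = the variable element, `false` = `b0c`), first letter first -/
def evalW (c : ℕ) : List Bool → ℕ → ℕ
  | [], x => x
  | l :: w, x => evalW c w (if l then actC c x else actC b0c x)

/-- the certificate for `c` -/
def cert (c : ℕ) (w : List Bool) : Bool :=
  (actC c uC != uC) && evalW c w uC == uC && inO2 (evalW c w x1C)

/-- scan the codes `hi - f, ..., hi - 1` against a sorted table of certificates -/
def scan (hi : ℕ) : ℕ → List (ℕ × List Bool) → Bool
  | 0, _ => true
  | f + 1, tbl =>
    if ord5 (hi - (f + 1)) then
      match tbl with
      | [] => false
      | (c, w) :: t => (c == hi - (f + 1) && cert (hi - (f + 1)) w) && scan hi f t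
    else scan hi f tbl

theorem scan_spec (hi : ℕ) : ∀ (f : ℕ) (tbl : List (ℕ × List Bool)), scan hi f tbl = true →
    ∀ j, hi - f ≤ j → j < hi → ord5 j = true → ∃ w, cert j w = true := by
  intro f
  induction f with
  | zero => intro tbl _ j h1 h2; omega
  | succ f ih =>
    intro tbl h j h1 h2 ho
    unfold scan at h
    by_cases hm : ord5 (hi - (f + 1)) = true
    · rw [if_pos hm] at h
      match tbl, h with
      | [], h => simp at h
      | (c, w) :: t, h =>
        simp only [Bool.and_eq_true, beq_iff_eq] at h
        by_cases hj : j = hi - (f + 1)
        · exact ⟨w, by rw [hj]; exact h.1.2⟩
        · exact ih t h.2 j (by omega) h2 ho
    · rw [if_neg hm] at h
      have hj : j ≠ hi - (f + 1) := by
        intro hj; rw [hj] at ho; exact hm ho
      exact ih tbl h j (by omega) h2 ho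

/-- table chunk 0 -/
def tbl0 : List (ℕ × List Bool) := []

theorem scan_ok0 : scan 4096 4096 tbl0 = true := by decide +kernel

/-- table chunk 1 -/
def tbl1 : List (ℕ × List Bool) := [(4699, [true, false, true, true, true]), (4730, [true, true, true, false, true]), (4751, [true, false, true, true, true]), (4765, [true, true, true, false, true]), (4780, [true, false, true, false, true, true]), (4805, [true, true, false, true, true, true, true]), (4838, [true, false, false, true, true, false, true]), (4852, [false, false, true, false, true, true, true]), (4941, [true, false, true, true]), (4974, [false, false, true, true, false, true]), (4988, [false, true, false, false, false, true]), (4999, [true, false, false, true, true]), (5013, [true, true, false, true, false, true, true]), (5028, [true, false, true]), (5083, [true, true, false, false, true]), (5114, [true, true, false, true]), (5487, [true, false, true, false, false, true]), (5499, [false, true, true, false, true, true]), (5510, [true, true, true, false, false, true]), (5534, [true, true, true, false, true]), (5578, [true, true, true, false, true, true, true, true]), (5586, [true, false, true, false, false, true]), (5603, [false, true, true, false, true, true]), (5623, [true, false, true, true, false, true]), (5695, [true, false, true, true, true]), (5726, [true, false, true, true, true]), (5772, [false, true, false, true, true]), (5797, [true, true, true, false, true, true, true]), (5826, [true, false, false, true, true, false, true]), (5844, [true, true, false,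 false, true, true, false, true]), (5867, [true, false, true, true]), (5885, [false, true, true, true, false, true]), (5949, [true, true, false, true, true]), (5964, [true, false, true, false, true]), (5978, [true, true, true, false, true]), (6036, [true, false, true, true]), (6063, [true, true, false, true]), (6094, [true, true, false, true, true]), (6117, [true, false, true, true, true]), (6131, [true, false, true, false, true, true]), (6198, [true, true, true, true, false, true, true]), (6223, [true, false, false, true, true]), (6231, [false, true, false, true]), (6250, [true, true, false, false, true]), (6318, [true, false, true, true]), (6347, [true, false, true, false, false, true]), (6355, [true, false, false, true]), (6386, [false, true, true, false, true]), (6462, [true, true, true, false, false, false, true]), (6475, [true, true, false, true, false, false, true]), (6483, [true, true, false, false, true, true]), (6514, [true, true, true, false, true, true, true]), (6566, [true, true, true, true, false, true, true]), (6599, [true, true, true, false, true]), (6623, [true, true, false, true, false, true, true]), (6634, [true, true, true, false, true]), (6716, [false, true, false, true]), (6723, [true, false, false, false, false, true]), (6756, [true, false, false, false, true]), (6782, [true, false, true, false, true, true]), (6797, [true, false, true, false, false, true]), (6807, [true, false, false, true, true, true]), (6869, [true, true, false, true, true]), (6882, [true, true, false, true]), (6964, [true, true,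 false, true]), (7005, [true, false, false, false, true, true]), (7010, [true, true, false, false, true]), (7045, [true, false, false, false, false, true, true]), (7071, [true, false, true, false, true, true, true]), (7107, [true, false, true, false, true, true]), (7148, [true, false, false, true]), (7158, [true, true, false, false, false, true]), (7242, [false, true, true, false, false, true]), (7250, [true, true, true, false, true, false, true]), (7267, [true, false, true, false, true, true]), (7295, [false, false, true, false, false, true]), (7310, [true, false, false, false, true, true]), (7318, [true, false, false, true, true]), (7399, [true, false, true, true]), (7419, [true, false, false, true, false, true, true]), (7733, [true, false, false, true, true, true]), (7750, [true, false, true]), (7789, [true, true, true, false, true]), (7795, [true, false, true, false, false, true]), (7836, [true, false, true, false, true, true]), (7847, [false, true, false, true, true, true]), (7876, [true, false, true]), (7898, [false, true, true, false, true]), (7991, [false, true, false, false, true, false, true]), (8002, [true, false, false, false, true, true]), (8028, [true, false, true, true, true]), (8043, [true, false, false, false, true, false, true]), (8053, [true, false, false, false, true, true]), (8068, [true, true, true, false, false, false, true]), (8109, [true, true, true, false, true]), (8150, [true, false, true, true, true])]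

theorem scan_ok1 : scan 8192 4096 tbl1 = true := by decide +kernel

/-- table chunk 2 -/
def tbl2 : List (ℕ × List Bool) := [(8527, [false, true, false, true, true, true]), (8541, [true, false, true, true, true]), (8556, [false, true, false, false, false, true, true]), (8599, [true, false, true, false, true]), (8630, [true, false, true, true]), (8649, [false, true, true, false, true]), (8682, [true, false, false, false, false, true]), (8696, [true, true, false, true, false, false, true]), (9033, [true, true, false, false, false, true]), (9066, [true, true, true, false, false, true]), (9080, [true, true, false, true, false, true]), (9119, [false, true, false, false, false, true]), (9150, [true, true, false, false, true]), (9159, [true, false, true, false, false, true]), (9173, [true, true, false, true, false, false, true]), (9188, [true, true, false, true, true]), (9500, [true, false, true, true]), (9550, [false, false, true, false, true]), (9577, [true, false, false, false, true, true]), (9661, [true, true, true, false, false, true]), (9672, [true, true, false, false, false, true, true]), (9686, [true, false, false, true, true, true]), (9711, [true, false, true, true, false, false, true]), (9715, [true, false, true, true, false, true]), (9758, [true, true, false, true]), (9789, [true, true, false, false, true]), (9816, [true, true, false, true, false, false, true]), (9855, [true, true, false, true, false, false, true]), (9884, [false, false, true, false, false, true]), (9911, [true, false, true, false, true]), (9946, [true,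 false, true, false, false, false, true]), (9973, [false, true, true, true, false, false, true]), (10047, [true, true, true, true, false, true, true]), (10058, [true, true, false, false, false, false, true]), (10093, [false, false, true, false, true]), (10134, [false, true, false, false, true, true]), (10180, [true, true, true, false, false, true]), (10204, [false, true, false, false, true, true]), (10211, [true, false, true, true, false, true]), (10233, [true, false, true, true, false, false, true, true]), (10271, [true, true, true, false, false, true]), (10302, [false, true, false, true, true]), (10323, [true, false, true, false, true, true]), (10358, [true, false, true, false, true]), (10389, [true, false, false, true, true]), (10428, [false, true, false, true, true]), (10457, [false, true, true, false, true]), (10484, [true, true, true, false, true, false, true]), (10525, [true, true, false, true]), (10548, [true, false, true, false, true]), (10565, [true, false, true]), (10606, [true, true, true, false, true]), (10618, [true, true, true, false, false, true]), (10691, [true, true, true, false, false, true]), (10711, [true, false, true, false, false, true]), (10728, [true, false, false, false, true, false, true]), (10775, [false, true, false, true, false, true]), (10806, [true, false, true, false, true]), (10841, [true, false, true]), (10876, [true, true, false, false, false, true, true]), (10909, [true, true, true, true, false, true, true]), (10932, [true, true, true, false, false, false, false, true]), (10963, [true,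 false, false, false, true]), (11006, [true, false, true, true, false, false, true]), (11029, [true, true, false, true]), (11068, [true, true, true, false, true, false, true]), (11075, [true, true, false, false, false, true, true]), (11103, [true, true, false, false, false, true]), (11112, [false, true, true, false, false, false, true]), (11213, [true, false, false, false, false, true, true]), (11238, [true, false, true, false, true]), (11258, [true, true, false, false, false, false, true]), (11286, [true, false, true, true]), (11317, [true, false, true, true, false, true, true]), (11354, [false, true, true, false, false, true]), (11389, [true, false, false, true, true, true]), (11412, [true, false, true, false, true]), (11455, [true, false, false, true, false, true]), (11480, [true, false, true, false, false, true, true]), (11511, [true, false, true, true, false, false, true]), (11575, [false, true, true, false, true, false, true]), (11596, [true, false, true, false, true]), (11604, [false, true, false, false, true]), (11619, [true, true, true, false, true]), (11641, [true, true, false, true]), (11678, [true, true, false, true, true]), (11722, [true, false, false, false, true, true]), (11749, [true, true, false, true, false, false, true]), (12052, [true, false, true, true, false, false, true]), (12104, [true, false, false, true, true]), (12126, [true, false, true, true, true]), (12135, [true, false, true, true, true]), (12147, [true, true, true, false, true]), (12213, [true, true, false, false, true]), (12230, [true, true,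 true, false, false, true]), (12265, [true, true, false, true, false, false, true])]

theorem scan_ok2 : scan 12288 4096 tbl2 = true := by decide +kernel

/-- table chunk 3 -/
def tbl3 : List (ℕ × List Bool) := [(12619, [false, false, true, false, true]), (12633, [true, false, true, false, true]), (12648, [true, false, false, false, true, true, true]), (12685, [false, false, true, false, false, true]), (12718, [true, false, false, true, false, true]), (12732, [true, false, true, false, false, false, true]), (12759, [false, true, false, true, true]), (12790, [true, true, false, false, true, true]), (12895, [true, true, true, false, true]), (12926, [false, true, false, true, true, true]), (12933, [true, true, false, false, false, true]), (12966, [true, false, false, true]), (12980, [false, true, true, false, true]), (13003, [true, true, true, true, false, true, true]), (13017, [false, true, true, true, false, true]), (13032, [true, true, false, true]), (13598, [true, false, false, true, false, true]), (13640, [false, true, true, false, true]), (13693, [true, false, true, true, true, false, true]), (13735, [true, false, true, false, true]), (13759, [true, false, true, true, true, true, false, true]), (13762, [false, true, true, false, false, false, true]), (13788, [true, false, false, true]), (13801, [true, false, true, false, false, true]), (13852, [true, true, false, true, true]), (13945, [true, false, false, true]), (13956, [false, true, false, false, true, true]), (13997, [false, true, false, true]), (14030, [true, true,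 false, true, true]), (14034, [true, false, true, true, true]), (14055, [false, true, true, true, false, true]), (14075, [true, true, false, false, false, true]), (14172, [false, true, true, true, false, true]), (14187, [true, false, true, true]), (14222, [true, false, true, false, true]), (14261, [true, true, false, true, false, true, true]), (14278, [true, true, false, true, false, true, true]), (14296, [false, false, true, true, false, true]), (14319, [true, false, true]), (14333, [true, true, false, true, false, true]), (14359, [true, false, false, true, true, true]), (14409, [true, true, false, true, true, true, true]), (14444, [true, false, true, true, false, true]), (14450, [true, true, false, false, false, true]), (14500, [true, true, false, false, false, true]), (14533, [true, false, false, true, true, true]), (14559, [true, false, true]), (14590, [true, true, false, true, true]), (14613, [false, true, false, true, false, true, true]), (14692, [true, true, false, true, false, true]), (14712, [true, true, true, true, false, true, true]), (14735, [true, true, false, false, false, true]), (14774, [true, false, true]), (14797, [false, true, true, false, true]), (14811, [true, true, false, false, false, true]), (14818, [true, true, false, false, true]), (14877, [true, false, true, true]), (14917, [true, true, true, true, false, true, true]), (14939, [true, true, false, false, false, true]), (14946, [false, true, true, false, false, true]), (14983, [true, false, false, true, true]), (15038, [false, true, false, true]),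 (15084, [true, false, false, false, false, true]), (15096, [true, false, false, false, true]), (15135, [true, false, true, false, false, true]), (15181, [true, false, false, true, false, true, true]), (15191, [true, false, false, false, true]), (15222, [true, false, false, false, true, true]), (15276, [false, true, false, false, true, true]), (15305, [true, true, false, true]), (15332, [false, true, false, true, true]), (15346, [true, true, false, true]), (15438, [true, false, true, true, true]), (15448, [true, false, false, false, true, true]), (15463, [true, false, true, true]), (15477, [true, false, true, true, true]), (15494, [true, true, true, false, true, false, false, true]), (15549, [true, false, true, true]), (15572, [true, true, false, false, true]), (15595, [true, true, false, false, false, true]), (15636, [false, true, false, true]), (15686, [false, true, true, false, false, false, true]), (15698, [true, false, false, true, true]), (15727, [true, false, false, false, true, true]), (15739, [true, false, true, false, true, true, true]), (15756, [true, true, true, false, false, false, true]), (15781, [true, true, false, false, false, false, true]), (15865, [false, true, true, false, false, true]), (15894, [true, true, false, false, false, true]), (15938, [true, true, true, false, true]), (15956, [true, false, true, true]), (15977, [true, true, true, false, true, false, true]), (16047, [true, true, false, false, false, false, true]), (16055, [true, true, true, true, false, true, true]), (16072, [true, true, false,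 true, false, false, true, true]), (16117, [true, true, false, false, true, true])]

theorem scan_ok3 : scan 16384 4096 tbl3 = true := by decide +kernel

/-- table chunk 4 -/
def tbl4 : List (ℕ × List Bool) := [(16698, [true, true, false, false, true]), (16750, [true, false, true, false, true, true]), (16783, [true, false, false, false, true, true]), (16795, [true, true, true, false, false, false, false, true]), (16806, [true, true, false, true, true, true, true]), (16839, [true, false, true, true]), (16851, [true, true, false, true, true, true, false, true]), (16882, [true, true, false, true]), (16927, [true, true, false, false, true, false, true]), (16958, [false, true, true, true, false, true, false, true]), (16985, [true, false, false, true, true]), (17020, [true, false, true, true, true, false, true]), (17043, [true, false, false, true, true]), (17082, [true, true, true, true, false, true, true, true]), (17109, [true, true, true, false, true]), (17144, [true, true, false, false, false, false, false, true]), (17179, [false, true, true, false, true, true]), (17256, [true, true, false, true, true, true, true]), (17285, [true, false, true, true, false, true, false, true]), (17324, [false, true, false, true, true]), (17330, [true, true, false, true, false, false, true]), (17353, [false, true, false, false, false, true]), (17375, [false, true, true, false, true]), (17406, [true, true, false, false, false, true]), (17771, [true, true, false, false, false, true]), (17791, [true, false, true, true, true]), (17806, [true, false,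 false, true, false, true]), (17810, [true, true, false, true]), (17827, [true, false, false, false, false, true]), (17847, [true, false, false, false, true]), (17862, [false, true, true, false, false, false, true]), (17882, [true, true, false, true, true, true, true]), (17946, [true, true, true, false, true]), (17977, [true, true, false, false, false, true]), (18012, [true, false, true, false, true]), (18043, [true, false, true, true, true]), (18078, [true, false, false, false, true]), (18101, [true, false, true, false, false, true]), (18136, [true, true, false, false, true, false, true]), (18167, [false, true, true, false, true]), (18264, [true, true, true, false, true]), (18287, [false, true, false, true, true, true]), (18310, [true, true, true, false, true, false, true]), (18332, [true, true, true, false, true, true, true]), (18347, [true, false, false, false, true]), (18361, [true, true, false, true, true, false, true]), (18378, [false, false, true, false, true, true]), (18421, [true, false, true]), (18711, [true, true, false, true]), (18783, [true, true, false, true]), (18794, [true, true, false, true]), (18806, [false, true, true, false, true]), (18819, [true, true, false, true]), (18850, [false, false, true, true, false, true]), (18878, [true, true, false, true]), (18891, [true, true, false, true]), (18969, [false, true, false, true]), (19000, [true, true, false, true, false, true, true]), (19031, [true, true, true, false, true]), (19058, [false, false, true, true, false, true]), (19093, [false, false, true, false,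 false, true, true]), (19132, [true, false, true, true, false, false, false, true]), (19163, [true, false, false, false, true, true]), (19190, [true, true, true, true, false, true, true]), (19254, [false, true, true, false, true]), (19283, [true, true, true, true, false, true, true]), (19308, [true, false, true, false, true]), (19322, [true, false, false, false, false, true, true]), (19337, [true, false, false, true]), (19351, [false, false, true, true, true, false, true]), (19368, [true, true, false, true]), (19397, [false, true, false, true, true]), (19734, [true, false, true, true]), (19771, [true, false, true, true, true, false, true]), (19806, [true, true, false, true, true, true, true]), (19815, [true, false, true, false, false, true]), (19850, [true, true, true, false, true, false, true]), (19887, [false, true, false, true, true, true]), (19906, [true, false, true, true, true]), (19955, [false, false, true, true, false, false, true]), (19996, [false, true, false, true, true]), (20031, [true, true, false, false, true]), (20050, [false, true, false, false, true, true]), (20085, [true, false, true, true, true]), (20120, [true, true, false, true, false, true]), (20147, [true, true, true, false, true, true, true]), (20182, [false, true, true, false, false, true]), (20217, [true, true, false, false, true]), (20248, [true, false, false, true, false, true, true]), (20277, [false, true, false, false, true, false, true]), (20323, [true, false, false, true]), (20345, [true, true, false, true]), (20354, [true, true, false, false,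 true, true, true, true]), (20391, [true, false, true]), (20430, [true, true, true, false, false, true]), (20444, [true, false, false, false, true, false, true])]

theorem scan_ok4 : scan 20480 4096 tbl4 = true := by decide +kernel

/-- table chunk 5 -/
def tbl5 : List (ℕ × List Bool) := [(20798, [true, false, false, true, true]), (20842, [true, false, true, true]), (20871, [true, false, false, true]), (20883, [true, false, false, true, true]), (20914, [true, false, false, true, false, false, true]), (20939, [true, false, false, false, false, true]), (20959, [true, false, true, true, false, true, false, true]), (20966, [true, false, false, false, false, true]), (21021, [true, false, true, true, true]), (21048, [true, true, true, false, true]), (21129, [true, false, true, true]), (21166, [true, true, true, false, true]), (21174, [true, false, true, false, true]), (21187, [true, false, false, false, true, true]), (21211, [true, true, true, false, true]), (21220, [false, true, false, true, true]), (21273, [true, false, true, false, false, false, true]), (21327, [true, false, true]), (21370, [true, false, true]), (21416, [true, false, true, true]), (21428, [false, true, true, false, true, true]), (21453, [true, false, true, true, false, true]), (21463, [false, true, true, false, true, true]), (21474, [false, true, false, false, false, true, true]), (22040, [true, false, false, true, true, false, true]), (22141, [true, false, true, true]), (22154, [true, false, true, true, true]), (22162, [true, false, false, false, true]), (22183,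 [false, true, false, false, false, true, true]), (22207, [true, false, true, true, true]), (22212, [true, false, false, true, true]), (22249, [false, true, false, false, true, true]), (22331, [true, true, true, false, true, true, true]), (22350, [true, true, true, false, true, true, true]), (22377, [true, false, true, true, true]), (22404, [true, false, true, false, true]), (22424, [true, false, false, true, true]), (22435, [true, true, true, true, false, false, true, true]), (22461, [false, true, false, false, true]), (22486, [true, false, true]), (22555, [true, false, true, false, false, true]), (22595, [true, false, true, true]), (22626, [true, false, false, true, true, false, true, true]), (22654, [true, false, true, true]), (22687, [true, false, false, false, false, false, true, true]), (22694, [true, true, false, false, true, false, true]), (22714, [true, false, true, true, true]), (22727, [true, false, false, true, true]), (23092, [true, false, true, false, true]), (23117, [true, false, true, true, true, true, false, true]), (23150, [true, false, false, false, false, true, true]), (23158, [true, false, true, false, true]), (23171, [true, false, true, false, true]), (23195, [true, false, true, false, true]), (23257, [false, true, false, true, true, true]), (23272, [false, true, false, false, true, true]), (23319, [true, false, false, false, true, true]), (23354, [true, false, false, true, false, true]), (23369, [true, false, false, true, true]), (23396, [true, false, false, true, true]), (23416, [false, true, false,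 false, true]), (23439, [true, false, true, true, false, false, true]), (23453, [true, false, true, true]), (23458, [true, true, false, false, true, false, true]), (23582, [false, true, false, false, true, true]), (23607, [true, false, true, true]), (23622, [true, false, false, false, true]), (23659, [true, true, true, false, true, false, true]), (23682, [true, true, true, false, false, true]), (23731, [true, false, false, true, true]), (23770, [false, true, false, true, true]), (23791, [true, false, true]), (23834, [true, true, true, false, true]), (23871, [true, false, false, true, true]), (23874, [true, false, false, true, true]), (23923, [true, false, false, true]), (23958, [true, true, false, false, true, true]), (23979, [true, false, false, false, true]), (24014, [true, true, true, false, true, true, true, true]), (24039, [true, false, true, true, false, true]), (24121, [true, true, true, false, true, false, true]), (24136, [true, false, true, true]), (24167, [true, true, false, true, true, false, true]), (24191, [true, true, true, false, false, true]), (24212, [true, true, false, true, true]), (24237, [true, false, true, true, false, true]), (24266, [true, true, true, false, true]), (24274, [true, false, false, false, true, true]), (24342, [true, true, false, true, true]), (24429, [true, false, false, true, true]), (24443, [true, false, true]), (24462, [true, false, false, false, true, true]), (24505, [true, false, true, true]), (24520, [true, false, false, true, true, true]), (24532, [false, true, false, true, true]),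 (24547, [true, false, false, true, true, false, true])]

theorem scan_ok5 : scan 24576 4096 tbl5 = true := by decide +kernel

/-- table chunk 6 -/
def tbl6 : List (ℕ × List Bool) := [(24892, [false, false, true, false, true, true]), (24909, [true, false, true, true]), (24923, [true, true, false, true]), (24963, [true, true, true, false, true]), (25000, [true, false, false, false, true]), (25022, [true, true, false, true, false, true, true]), (25049, [true, false, true, false, false, true, true]), (25058, [true, false, true, true]), (25115, [true, false, false, false, true, true, true]), (25146, [true, false, false, true, true, true]), (25181, [false, true, false, false, false, true]), (25208, [true, true, false, true, true]), (25237, [true, false, true]), (25276, [true, true, true, false, true, false, false, true]), (25299, [true, true, true, false, true]), (25342, [true, false, false, true, false, true, true]), (25373, [true, false, false, false, true, true, true]), (25419, [true, false, false, false, true]), (25470, [true, false, false, false, false, true]), (25481, [true, true, false, true, true, true, true]), (25495, [true, true, false, false, true, false, true]), (25506, [true, false, false, true]), (25580, [true, false, false, true, true]), (25588, [true, false, true, false, true, true, true]), (25882, [true, true, true, false, true]), (25932, [true, false, true, false, true]), (25977, [true, true, true, false, true]), (25986, [true, false, false, true]), (26008, [true, false, true, true, false, true]), (26029, [true,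 true, false, false, false, true]), (26087, [false, true, false, true, true]), (26107, [true, true, false, false, true]), (26425, [false, true, true, false, true]), (26440, [false, false, true, false, true]), (26462, [false, true, true, true, false, true]), (26506, [true, true, false, false, true]), (26533, [true, true, true, false, false, false, true]), (26547, [true, true, false, true]), (26580, [true, false, false, true, true, true]), (26603, [true, false, true, false, true]), (26645, [true, true, false, true]), (26676, [true, false, true, false, false, true]), (26713, [true, true, true, false, false, false, true]), (26748, [true, true, true, false, true]), (26779, [true, false, true, true, false, true]), (26802, [true, true, false, true, false, false, true]), (26839, [true, false, true, false, true]), (26874, [true, true, true, false, true]), (26936, [false, true, true, true, false, true]), (26947, [true, true, false, true, true]), (26967, [true, true, false, false, false, true]), (27021, [true, true, false, true]), (27054, [true, true, false, false, true]), (27066, [true, true, false, false, true]), (27093, [true, true, false, false, false, true]), (27108, [true, false, false, false, false, true]), (27417, [true, false, true, false, true, true]), (27461, [true, false, false, true, false, true, true]), (27506, [true, false, true, true, true]), (27527, [true, false, false, false, true, true]), (27539, [true, false, true, false, false, true]), (27556, [true, true, false, false, true]), (27626, [true, false, true, true]),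 (27640, [false, true, false, true]), (27672, [true, true, true, false, false, false, true]), (27707, [false, true, false, true, true]), (27732, [false, true, false, false, true]), (27763, [false, true, false, true, true]), (27806, [true, false, true, false, true]), (27829, [true, true, false, true, false, true]), (27858, [false, true, false, true, true]), (27901, [true, false, false, true, false, true]), (27934, [true, true, false, false, false, true]), (27978, [false, true, true, false, true]), (28021, [true, true, true, false, false, true]), (28036, [true, false, false, true, true]), (28060, [true, false, true, false, true]), (28067, [true, true, false, true, true]), (28137, [true, false, true, true]), (28151, [false, true, true, false, false, true]), (28180, [true, true, true, false, false, false, true]), (28215, [false, false, true, false, true, true]), (28250, [true, false, true, true, true]), (28285, [true, false, false, true, true, true]), (28306, [false, true, true, true, false, true]), (28345, [true, true, false, true, true]), (28380, [false, true, false, false, true, true]), (28403, [true, false, true, true, true]), (28477, [true, true, false, false, true]), (28494, [true, false, true, false, true, true]), (28498, [true, true, true, false, true]), (28556, [false, true, false, false, true, true, true]), (28587, [false, false, true, false, false, true, true]), (28599, [true, true, true, false, true]), (28632, [false, true, false, false, true, true]), (28645, [true, false, true, true])]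

theorem scan_ok6 : scan 28672 4096 tbl6 = true := by decide +kernel

/-- table chunk 7 -/
def tbl7 : List (ℕ × List Bool) := [(28984, [true, false, false, false, true, true]), (29001, [true, true, true, false, false, false, false, false, true]), (29023, [true, false, true, false, false, true]), (29085, [true, false, false, true, true]), (29090, [false, false, true, false, true, true]), (29123, [false, true, false, true, true]), (29164, [true, false, true, true, false, false, true, true]), (29178, [false, true, true, false, false, true]), (29209, [true, false, false, true, true]), (29244, [false, false, true, false, false, true, true]), (29315, [true, false, true, false, true, true]), (29343, [true, false, false, false, true]), (29348, [true, true, true, true, false, true, true, true]), (29389, [false, true, false, true]), (29418, [true, false, false, true, true, true]), (29430, [false, true, false, true, false, true]), (29471, [true, true, false, true, true, false, true]), (29548, [true, true, false, true, true]), (29581, [true, false, true, true]), (29595, [false, true, true, false, true, false, true]), (29626, [true, false, false, true, false, true, true]), (29637, [true, false, false, true, true]), (29672, [false, false, true, false, true, true]), (29682, [false, true, true, false, true]), (29976, [true, false, false, false, true]), (30026, [false, false, true, true, false, true]), (30061, [true, true, false, false, false, true]), (30092, [true, false, true]), (30102, [true, false, true, false, true]), (30123, [true,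 true, false, false, false, true]), (30131, [true, false, false, false, true]), (30201, [true, true, false, true]), (30267, [true, true, false, false, true]), (30298, [true, false, false, true, false, true, true]), (30338, [true, false, true]), (30356, [true, false, false, true]), (30383, [true, true, false, true]), (30393, [true, false, false, true, false, true, true]), (30408, [true, false, true, true, true]), (30437, [true, true, false, true]), (30778, [false, true, false, false, true, true]), (30789, [false, true, false, false, false, true]), (30811, [true, true, false, false, false, true]), (30820, [false, true, true, false, true, true]), (30867, [false, true, false, false, true]), (30892, [true, true, true, false, true, false, true, true]), (30902, [true, false, true, false, false, false, true]), (30921, [true, false, true]), (31003, [true, true, false, true, true, true, true]), (31030, [true, true, false, true, false, true]), (31055, [false, true, false, false, true]), (31069, [true, false, true, false, false, true]), (31074, [true, true, false, false, true]), (31109, [false, true, false, true, true, true]), (31144, [true, true, false, false, true]), (31156, [true, true, true, false, true, false, true]), (31253, [true, false, false, true, true]), (31307, [true, false, false, true, true]), (31315, [true, false, false, true, true]), (31336, [true, true, false, false, true]), (31369, [true, true, false, true, true, true, true]), (31410, [true, true, false, false, false, true]), (31462, [true, true, true, false, true]),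 (31476, [true, true, true, true, false, true, true, true]), (31764, [true, true, false, true]), (31805, [true, true, false, false, true]), (31810, [false, false, true, false, true]), (31855, [true, true, true, false, true, false, true]), (31882, [true, false, false, false, false, true]), (31896, [true, false, false, true, false, false, true]), (31971, [false, true, false, true, true]), (31989, [true, true, true, false, false, true]), (32053, [true, true, true, false, true]), (32092, [true, false, true, true]), (32105, [true, true, true, true, false, false, true, true]), (32134, [true, true, false, true]), (32146, [true, false, false, false, true, true]), (32196, [true, false, true, true, true]), (32239, [false, true, false, true, false, true]), (32251, [false, true, true, false, false, true]), (32282, [true, true, false, true, false, false, true]), (32332, [true, true, false, true, true, true, true]), (32344, [true, false, false, false, true, true]), (32355, [true, false, true, true, true, false, true, true]), (32421, [true, true, true, true, false, false, true, true]), (32447, [true, false, false, false, true]), (32454, [false, false, true, true, false, true]), (32509, [true, true, false, true, true]), (32540, [true, true, true, false, false, true]), (32569, [true, false, true, true]), (32582, [false, true, false, false, true]), (32596, [true, true, false, false, true]), (32675, [false, true, false, true]), (32701, [true, false, false, false, true, true]), (32706, [false, true, true, false, true, true, true, true]), (32747,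 [true, false, true, false, true, true, true])]

theorem scan_ok7 : scan 32768 4096 tbl7 = true := by decide +kernel

/-- table chunk 8 -/
def tbl8 : List (ℕ × List Bool) := []

theorem scan_ok8 : scan 36864 4096 tbl8 = true := by decide +kernel

/-- table chunk 9 -/
def tbl9 : List (ℕ × List Bool) := [(37194, [true, false, true, false, true]), (37214, [true, true, true, false, true]), (37295, [true, false, false, false, false, true, true]), (37303, [false, true, false, false, true, true]), (37318, [true, false, true]), (37330, [true, true, false, true]), (37347, [true, true, false, false, false, false, true]), (37371, [false, true, false, true]), (37404, [false, true, false, true, false, false, true]), (37501, [true, true, true, false, false, true]), (37518, [true, false, false, false, true, true]), (37541, [true, false, true, false, true, true, true]), (37572, [true, false, true, true]), (37594, [false, true, true, false, true, true]), (37615, [true, true, false, true]), (37619, [true, false, false, false, true]), (37662, [true, false, false, true]), (37739, [false, true, true, false, false, true, true]), (37759, [true, false, true, true, true]), (37764, [true, false, false, false, true]), (37821, [true, true, true, false, true, false, true]), (37826, [true, false, false, true, false, true]), (37852, [true, false, true, true]), (37861, [true, true, false, false, true]), (38493, [true, false, true, true, true]), (38524, [false, true, false, true, true, true]), (38533, [true, true, true, false, false, true]), (38564, [false,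 true, true, false, true]), (38590, [true, true, false, true]), (38603, [false, true, false, false, true]), (38615, [false, true, false, false, true, true]), (38634, [true, true, false, false, true]), (38731, [true, false, true, true, true]), (38751, [true, false, false, false, true]), (38762, [true, true, true, false, false, false, false, true]), (38797, [true, false, false, true, true]), (38828, [false, true, false, false, true, false, true]), (38838, [true, false, false, false, true, false, true]), (38869, [true, false, true, false, true]), (38900, [true, true, false, false, true]), (38990, [false, true, true, false, true]), (38994, [true, true, false, true, true, false, true]), (39011, [false, true, true, false, true]), (39035, [true, true, false, true, true]), (39079, [true, true, false, false, false, true]), (39103, [true, false, true, false, true]), (39114, [false, true, true, false, false, false, true]), (39126, [true, true, false, false, true, false, true]), (39446, [true, false, true, true, true]), (39490, [true, true, true, true, false, true, true]), (39508, [true, false, true]), (39533, [true, false, false, true, true]), (39564, [true, false, false, false, true, true]), (39605, [true, false, true, false, false, true, true]), (39659, [true, false, false, true]), (39671, [true, false, false, true]), (39700, [true, true, false, true, false, true, true, true]), (39756, [true, false, true, true, true]), (39770, [false, true, true, false, true]), (39783, [true, false, true, true, true]), (39795, [false, true, true,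 false, true]), (39814, [true, false, true, false, true, false, true, true]), (39853, [true, false, false, false, false, true, true]), (39925, [true, true, false, true]), (39967, [true, true, true, true, false, false, true, true]), (40003, [true, true, false, true, false, false, true]), (40034, [true, false, true, true]), (40058, [false, true, false, true, true, true]), (40071, [false, true, true, false, false, true]), (40155, [true, false, false, true, true, false, true]), (40166, [true, true, true, false, true]), (40190, [true, true, false, false, false, false, true]), (40215, [true, true, false, true, false, false, true]), (40283, [true, true, false, true]), (40302, [true, false, true]), (40310, [true, false, false, true, true]), (40335, [true, true, false, true, false, true, true]), (40387, [true, false, true, false, true]), (40418, [true, true, false, false, false, true]), (40442, [true, true, false, false, true]), (40469, [true, false, true, true]), (40527, [true, false, false, false, true, true]), (40531, [true, false, false, true]), (40556, [false, true, false, true, true]), (40614, [true, false, true]), (40628, [true, true, false, true, true]), (40653, [true, true, true, false, true, false, true]), (40690, [true, false, true, true, true]), (40733, [true, false, false, false, true, true]), (40773, [true, true, false, true, false, true, true]), (40818, [true, true, false, false, true, false, true]), (40878, [true, false, true, true, false, false, true]), (40892, [true, false, true, true, false, true]), (40903, [true,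 false, true, false, true, true]), (40915, [true, false, true, true, true]), (40932, [false, true, true, false, false, false, true])]

theorem scan_ok9 : scan 40960 4096 tbl9 = true := by decide +kernel

/-- table chunk 10 -/
def tbl10 : List (ℕ × List Bool) := [(41279, [true, true, false, false, false, true]), (41292, [false, false, true, false, true, true, true]), (41321, [false, true, true, false, true, true]), (41374, [true, false, true, true]), (41410, [true, false, true, true, false, false, true, true]), (41432, [true, false, false, false, false, true]), (41447, [true, false, true, true]), (41469, [true, true, true, false, true, false, false, true]), (41502, [true, false, true]), (41533, [true, false, false, true, false, true, true]), (41564, [false, true, false, true, true, true]), (41595, [true, false, false, true]), (41620, [false, false, true, false, true]), (41663, [false, true, false, true, true]), (41686, [false, true, true, true, false, true]), (41721, [true, false, false, true]), (41756, [true, true, false, true, false, true, true]), (41800, [true, true, false, false, true]), (41837, [true, true, false, true, true]), (41909, [true, true, false, true, true]), (41934, [true, true, false, true, true]), (41938, [true, true, true, true, false, true, true, true]), (41963, [true, true, false, true]), (41975, [true, true, false, false, true]), (42313, [false, true, false, false, true, true]), (42344, [true, true, true, false, false, true]), (42366, [true, false, true, true, true]), (42397, [true, true, false, false,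 false, true]), (42428, [false, true, false, true]), (42439, [false, true, false, true, false, true]), (42459, [false, false, true, false, true]), (42470, [false, false, true, false, true, true]), (42831, [false, true, false, false, true]), (42843, [true, true, false, true, true]), (42862, [true, false, false, true, true]), (42901, [true, true, true, true, false, true, true]), (42932, [false, true, true, false, true, true]), (42953, [true, false, true, true]), (42984, [false, true, false, true]), (42998, [false, true, false, true, false, true]), (43030, [true, true, true, true, false, true, true]), (43061, [true, false, true, false, false, true, true]), (43102, [true, true, true, false, true, true, true, true]), (43129, [true, false, true]), (43164, [true, false, false, false, false, true, true]), (43191, [true, true, true, false, false, false, true]), (43220, [true, true, true, true, false, true, true, true]), (43259, [true, false, false, false, false, true]), (43284, [true, true, true, true, false, true, true, true]), (43334, [true, true, true, false, false, true]), (43346, [true, true, true, false, true, false, true]), (43371, [false, true, true, true, false, true]), (43391, [true, false, true, true, true]), (43453, [true, true, false, true]), (43464, [true, true, false, false, true]), (43493, [false, true, false, true, true, true]), (43831, [true, false, false, true]), (43842, [true, true, false, true]), (43864, [true, true, false, false, false, true]), (43887, [true, false, true]), (43893, [true, true, false, true]),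 (43926, [false, false, true, true, false, false, true]), (43972, [true, true, false, false, false, true]), (44009, [true, true, false, true, false, true, true, true]), (44053, [false, true, false, true, false, true]), (44084, [false, true, true, false, true]), (44125, [true, false, true, false, false, true]), (44152, [true, true, false, true, true, true, true]), (44183, [true, true, false, true]), (44222, [false, true, false, true, true]), (44255, [true, false, true, false, true]), (44274, [true, true, false, true]), (44319, [false, false, true, true, false, true]), (44342, [true, false, true, true]), (44363, [true, true, true, true, false, true, true]), (44377, [true, true, false, true, false, true, true, true]), (44386, [true, true, false, true, false, true]), (44485, [true, false, true, true, false, true]), (44524, [true, true, true, false, true]), (44532, [true, true, false, false, true]), (44573, [true, true, false, false, false, false, true]), (44604, [true, true, false, true, false, true]), (44631, [true, true, false, true, true]), (44658, [true, false, true, false, true]), (44703, [true, false, false, true, true]), (44726, [true, true, true, false, true, false, true]), (44757, [true, false, false, true, false, true, true]), (44792, [true, false, false, true]), (44823, [true, true, true, false, true]), (44862, [false, true, false, false, false, true, true]), (44877, [true, false, false, true, true]), (44900, [true, false, false, false, true]), (44924, [true, false, false, true, true]), (45003, [false, true, false,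 true, false, true]), (45017, [true, true, false, false, true, false, true]), (45026, [true, true, true, true, false, true, true])]

theorem scan_ok10 : scan 45056 4096 tbl10 = true := by decide +kernel

/-- table chunk 11 -/
def tbl11 : List (ℕ × List Bool) := [(45373, [true, true, false, false, true]), (45400, [true, false, false, false, true]), (45423, [true, false, true, true]), (45452, [true, false, false, true, true, true]), (45462, [true, false, true, true, true, false, true]), (45518, [true, true, true, false, true]), (45545, [true, true, false, false, true]), (45555, [true, false, false, true, true, true]), (45631, [true, true, false, false, true, true, true, true]), (45658, [false, true, true, true, false, true]), (45702, [true, true, false, true]), (45741, [true, false, true, true, true]), (45768, [true, true, false, true, true, true, true]), (45788, [false, true, true, true, false, true]), (45795, [true, true, false, false, true]), (45813, [true, true, true, false, true]), (45902, [true, false, true, true, true]), (45945, [true, true, false, true, false, true]), (45980, [false, true, false, false, true, true]), (45991, [false, true, true, false, false, true]), (46026, [true, false, false, true, true, true]), (46036, [true, false, false, true, true]), (46063, [false, true, true, true, false, true]), (46077, [true, true, false, true, true, false, true]), (46413, [true, true, false, false, false, true]), (46444, [true, false, false, false, true, true]), (46458, [true, false, false, true, true, true]), (46471, [true,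 true, true, false, true]), (46495, [true, false, false, false, true, false, true]), (46502, [true, true, true, false, true]), (46553, [false, true, false, true, true]), (46584, [true, true, false, true, true]), (46681, [false, true, false, false, false, true]), (46712, [false, false, true, false, true]), (46735, [true, false, false, false, false, true, true]), (46743, [true, true, false, false, true]), (46766, [true, true, false, false, false, true]), (46789, [true, true, true, false, false, true]), (46820, [true, false, true, true, true]), (46842, [true, true, true, false, true]), (47178, [false, true, false, false, false, true, true, true]), (47196, [true, true, true, false, true]), (47207, [false, false, true, true, true, false, true]), (47221, [true, false, false, false, true, true, true]), (47252, [true, true, true, false, true]), (47279, [false, true, false, true, true, true]), (47302, [true, true, false, false, false, true]), (47353, [true, true, false, true, false, true, true]), (47415, [true, true, false, false, true]), (47432, [true, true, true, false, true]), (47444, [true, true, true, false, true]), (47459, [true, true, false, false, true]), (47485, [true, true, false, true]), (47502, [true, true, false, false, false, false, true]), (47525, [true, false, true, false, true, true, true]), (47578, [true, true, false, false, false, true]), (47669, [true, false, true, false, true]), (47686, [true, false, false, false, true, true, true]), (47721, [true, true, false, true]), (47731, [true, true, true, false, true]),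 (47748, [false, true, true, true, false, true]), (47774, [false, true, true, false, true]), (47832, [true, true, true, true, false, true, true]), (47847, [true, true, false, false, true]), (48190, [true, true, false, false, true]), (48197, [true, false, false, true, true]), (48223, [false, true, false, true, true]), (48228, [false, true, false, false, true]), (48269, [true, false, false, true, false, true]), (48339, [true, false, true]), (48360, [true, false, true, true]), (48374, [true, true, false, false, true]), (48444, [true, true, true, false, false, true]), (48451, [true, true, true, true, false, true, true]), (48471, [true, false, false, false, true, true, true]), (48533, [true, false, true, true, false, false, true, true]), (48548, [true, true, false, true]), (48585, [true, true, false, false, false, true]), (48618, [true, false, true, true]), (48638, [true, true, false, true, true]), (48692, [true, false, false, true]), (48713, [true, true, false, false, true]), (48746, [true, true, false, true, true, true, true]), (48758, [true, true, true, false, false, true]), (48797, [false, true, false, true]), (48812, [false, true, false, false, true, true]), (48835, [true, true, false, true]), (48863, [true, true, false, true, false, true, true]), (48950, [false, true, false, true, true]), (48979, [true, true, false, false, true, true]), (49000, [true, true, true, true, false, true, true, true]), (49022, [true, false, true, true]), (49029, [false, true, true, false, false, true]), (49101, [false, true, false, false, false,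 true]), (49111, [true, true, false, false, true]), (49132, [true, true, true, false, true, false, true])]

theorem scan_ok11 : scan 49152 4096 tbl11 = true := by decide +kernel

/-- table chunk 12 -/
def tbl12 : List (ℕ × List Bool) := [(49486, [true, false, true, true, false, true]), (49498, [true, false, false, false, true, true]), (49542, [true, true, false, false, true]), (49554, [true, false, true, true]), (49571, [true, false, true, true, false, true]), (49599, [false, true, false, false, true]), (49643, [true, true, false, true, true]), (49655, [true, false, false, true, false, true, true]), (49690, [true, false, true, true, true]), (49721, [true, true, false, false, true]), (49752, [false, true, false, true, true, true]), (49791, [false, false, true, false, false, true, true]), (49814, [true, false, false, true, true]), (49853, [true, true, false, false, true, true]), (49876, [true, false, true, true]), (49915, [true, true, true, true, false, true, true]), (49994, [false, true, true, true, false, true]), (50045, [false, true, true, false, true, true]), (50062, [true, false, true, true, true]), (50068, [true, false, true, false, false, true]), (50091, [true, true, false, true]), (50105, [true, true, false, true, false, true]), (50136, [true, true, true, false, true, true, true]), (50151, [true, false, false, false, true]), (50463, [true, true, false, false, true, true]), (50507, [true, false, true, true]), (50563, [false, true, false, true, true, true]), (50594, [true, false, false, true, true, true]), (50614, [true,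 true, false, false, true, true]), (50647, [true, true, false, true]), (50666, [true, true, true, false, true, false, true]), (50686, [true, false, true, false, true, true]), (50713, [true, false, false, true]), (50744, [false, true, true, false, true, true]), (50779, [true, true, true, false, true]), (50814, [true, false, false, true, false, true, true]), (50845, [true, false, true, true]), (50868, [true, false, true]), (50911, [false, true, false, false, true, true]), (50930, [true, true, false, true]), (51006, [true, false, false, true]), (51021, [true, false, false, true, true]), (51081, [true, false, false, true, true]), (51103, [true, true, false, false, true]), (51112, [false, true, false, false, true, true]), (51155, [true, true, true, false, false, false, true]), (51172, [true, true, false, false, false, true]), (51194, [true, true, false, true, true, false, true]), (51486, [false, true, true, false, false, true]), (51515, [true, true, false, false, false, true]), (51522, [true, false, false, true, true, true]), (51571, [false, true, false, true]), (51594, [true, false, false, false, true]), (51623, [true, false, false, false, true]), (51670, [true, false, true, true, true]), (51695, [true, false, true, true, false, true]), (51732, [true, true, true, false, true, true, true, true]), (51767, [false, false, true, false, true, true]), (51806, [true, false, false, false, true, true]), (51833, [true, true, false, false, false, true]), (51864, [false, true, false, false, true, true]), (51891, [true, false, true, true,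 false, true]), (51922, [true, true, false, false, true]), (51965, [true, true, false, false, true, false, true]), (51992, [true, true, false, true, true]), (52029, [true, true, false, false, true]), (52038, [true, false, true, true, false, true]), (52052, [true, false, true]), (52098, [true, true, false, true]), (52143, [true, true, true, true, false, false, true, true]), (52195, [true, false, false, true, true, false, true]), (52217, [true, false, false, true]), (52538, [true, false, false, true]), (52559, [true, true, false, false, true, false, false, true]), (52563, [false, true, false, true, true, true]), (52594, [true, false, false, false, true]), (52615, [false, true, true, true, false, true]), (52635, [true, false, true]), (52654, [true, false, true, false, true, true]), (52710, [true, false, false, true, true, false, true]), (52759, [true, false, false, false, true, true]), (52790, [true, true, false, true]), (52829, [false, true, false, false, true]), (52856, [true, true, true, false, true, true, true]), (52883, [true, true, true, true, false, true, false, true]), (52922, [true, true, false, false, true]), (52953, [true, true, true, false, true, false, true]), (52980, [false, true, true, false, true]), (53019, [true, true, false, true, true]), (53065, [true, true, true, false, true]), (53079, [true, true, true, false, true, false, true]), (53110, [true, false, false, false, true]), (53133, [true, false, true, false, true, true]), (53156, [true, false, false, true]), (53170, [false, false, true, true, false, true]),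 (53224, [true, false, true, true, true])]

theorem scan_ok12 : scan 53248 4096 tbl12 = true := by decide +kernel

/-- table chunk 13 -/
def tbl13 : List (ℕ × List Bool) := [(53819, [false, true, false, true, true, true]), (53854, [true, false, true, true, true]), (53900, [true, true, false, true, true]), (53912, [true, false, false, false, true]), (53923, [false, true, true, false, true]), (53941, [true, true, true, false, false, true]), (53958, [true, false, false, true]), (53993, [true, true, true, false, true]), (54040, [true, false, false, false, false, true]), (54092, [true, false, true, false, true]), (54121, [true, true, false, true, false, true]), (54154, [true, false, true, true]), (54162, [true, true, false, false, true, true]), (54191, [false, false, true, true, false, true]), (54199, [true, false, false, true]), (54261, [true, true, false, false, false, true]), (54555, [true, false, true, true, false, true]), (54607, [true, false, false, false, true]), (54679, [true, false, true]), (54702, [true, true, false, true]), (54714, [true, false, false, true, true]), (54723, [true, false, true, true, true, false, true]), (54754, [true, false, true, false, true, true]), (54774, [true, true, false, false, false, true]), (54815, [true, true, false, true, true]), (54842, [true, false, true, true]), (54919, [true, false, true, true, false, true, true]), (54933, [true, false, true, false, true]), (54946, [true, false, false, true]), (54985, [true, false, true, false, true]), (55020, [true, false, false, false, true]), (55032,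 [true, true, false, false, false, true]), (55100, [true, false, true, true]), (55129, [true, false, false, true, true]), (55144, [true, true, true, true, false, true, true]), (55171, [true, false, false, true]), (55195, [true, true, true, false, true]), (55237, [true, false, true]), (55270, [true, false, true, true]), (55294, [true, true, false, false, false, true]), (55322, [true, false, false, false, true, true, true]), (55351, [false, true, false, true, false, true]), (55366, [true, false, false, false, true, true]), (55407, [true, false, true, true]), (55454, [true, false, true, true, true]), (55467, [false, true, true, false, true]), (55490, [false, true, false, false, false, true]), (55539, [true, false, true, true, true]), (55574, [true, true, true, false, true, false, true, true]), (55615, [true, true, true, false, true]), (55642, [false, true, true, false, true, true, true, true]), (55655, [true, true, true, false, false, false, true]), (55682, [true, true, true, true, false, true, true, true]), (55731, [true, true, false, true, false, true]), (55758, [true, false, true, false, false, true]), (55787, [true, false, true]), (55838, [true, false, true, true]), (55880, [true, false, false, true, true]), (55900, [false, false, true, false, true, true]), (55907, [true, true, true, false, true, true, true]), (55942, [true, true, false, false, false, false, true]), (55993, [false, true, false, false, true, true]), (56037, [false, true, false, true, false, true]), (56059, [true, true, false, false, false, true]), (56121,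 [true, false, true]), (56138, [true, true, false, false, false, false, true]), (56146, [true, false, true, true, true, false, true]), (56220, [false, true, false, true, true, true]), (56229, [false, true, true, false, true]), (56264, [true, false, false, true, false, true]), (56303, [true, false, false, false, false, true, true]), (56311, [true, true, false, false, false, true]), (56374, [true, false, false, false, true]), (56395, [false, false, true, true, false, false, true]), (56407, [true, false, false, true, true, true]), (56430, [true, false, true]), (56463, [true, true, false, false, true]), (56467, [false, true, true, false, false, true]), (56498, [true, true, true, false, true]), (56554, [true, true, false, false, true]), (56857, [false, false, true, true, false, true, true]), (56901, [true, false, true, false, true]), (56927, [true, false, true, true, true]), (56930, [true, false, false, true, true]), (57000, [true, true, false, true]), (57020, [false, true, false, true]), (57031, [false, true, true, true, false, true]), (57082, [true, true, false, false, false, true]), (57109, [false, false, true, false, true, true]), (57144, [true, true, true, true, false, true, true]), (57155, [true, false, true, false, true, true]), (57179, [false, true, false, false, true]), (57196, [true, true, true, false, true]), (57225, [true, false, false, true, false, true]), (57254, [true, true, false, true]), (57278, [false, true, false, false, true, true])]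

theorem scan_ok13 : scan 57344 4096 tbl13 = true := by decide +kernel

/-- table chunk 14 -/
def tbl14 : List (ℕ × List Bool) := [(57657, [true, true, false, false, false, true, true]), (57692, [false, true, true, true, false, true]), (57707, [true, false, false, false, false, true]), (57738, [true, false, true, true]), (57773, [true, false, true, true, true, false, true]), (57779, [true, true, true, false, true]), (57800, [false, true, false, true, true]), (57814, [true, false, false, true, true, true]), (58138, [true, false, true, false, false, false, true]), (58223, [true, false, true, true]), (58235, [true, true, false, false, false, true]), (58242, [true, false, false, false, true, false, true]), (58264, [false, false, true, false, true]), (58277, [true, false, false, true, true, true]), (58308, [true, true, false, false, true, true]), (58361, [true, true, true, false, true, false, true]), (58649, [true, true, true, true, false, true, true]), (58730, [true, false, true]), (58744, [false, true, true, true, false, false, true]), (58767, [true, false, false, true, true, true]), (58771, [false, true, true, false, false, false, true]), (58796, [false, false, true, false, false, true]), (58829, [true, true, false, false, false, true]), (58866, [false, true, true, false, true]), (58909, [true, false, false, false, true, true, true]), (58940, [true, false, false, true, true]), (58975, [true, false, true, false, true]), (59002, [true, false, true, false, true]), (59035, [true, true, false, true]), (59058, [false, false, true,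 false, true, true]), (59097, [false, true, false, false, false, true, true]), (59124, [true, true, false, true, true, false, true]), (59192, [false, true, false, true, true]), (59229, [true, true, false, false, true, true]), (59244, [true, true, false, false, false, true, false, true]), (59269, [true, false, false, true, true]), (59302, [true, false, true, false, true]), (59322, [false, true, false, false, true, true]), (59331, [true, false, true, false, true]), (59359, [false, true, true, false, false, true]), (59420, [true, true, false, false, true, false, true]), (59455, [true, false, true, true]), (59476, [false, false, true, false, true, true, true]), (59507, [true, true, false, true, true]), (59538, [true, true, true, true, false, true, true, true]), (59577, [false, true, false, true, true]), (59610, [true, true, true, true, false, true, true]), (59637, [true, true, false, false, false, true]), (59701, [true, false, false, false, true, true, true]), (59736, [true, true, true, true, false, true, true]), (59757, [false, true, true, false, true]), (59780, [true, false, true, false, true]), (59819, [true, false, true, false, true]), (59839, [true, true, false, false, true]), (59846, [true, true, false, false, false, true]), (59858, [true, true, false, false, false, true]), (59928, [false, true, false, false, false, true, true]), (59963, [true, true, false, false, false, true]), (59986, [true, true, false, false, false, false, false, true]), (60021, [true, false, false, true]), (60054, [true, true, false, false, true, true]),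 (60093, [true, false, true, true, true, false, true]), (60124, [true, true, false, false, false, true, true]), (60147, [true, false, true]), (60182, [true, true, true, true, false, true, true]), (60265, [true, true, true, false, true, true, true]), (60287, [true, true, false, true]), (60300, [true, false, false, false, false, true]), (60308, [true, true, true, true, false, true, true]), (60323, [true, false, false, true]), (60362, [true, false, true, false, true, true]), (60413, [false, true, false, true]), (60443, [true, false, true, true, false, true]), (60474, [true, false, true, true]), (60499, [true, false, true, false, true]), (60534, [true, false, true, true]), (60573, [false, true, false, false, true]), (60596, [true, false, true, true, true]), (60629, [true, true, false, true]), (60664, [true, true, false, true]), (60693, [true, true, true, false, true, false, true]), (60772, [false, true, false, true, false, true]), (60796, [true, true, false, false, true, true]), (60809, [true, false, true]), (60831, [true, false, false, false, false, true]), (60834, [true, true, true, false, true]), (60875, [true, false, true, false, false, true]), (60918, [true, true, false, false, true]), (61236, [false, false, true, true, false, true]), (61273, [true, true, false, true, false, true, true]), (61282, [true, true, false, false, true]), (61315, [true, true, false, false, true, true]), (61352, [true, true, false, true]), (61366, [false, true, true, false, false, false, true]), (61381, [true, true, false, false, false, true]), (61403,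 [true, false, false, false, true, false, true])]

theorem scan_ok14 : scan 61440 4096 tbl14 = true := by decide +kernel

/-- table chunk 15 -/
def tbl15 : List (ℕ × List Bool) := [(61755, [false, true, false, true, true]), (61768, [true, false, false, true, true]), (61805, [true, false, true, true, true]), (61826, [true, true, true, false, false, true]), (61852, [true, false, true]), (61863, [false, true, false, true, true]), (61881, [true, true, false, true]), (61914, [true, true, true, false, false, true]), (61976, [true, true, false, false, false, false, true]), (62073, [true, false, true, true, true]), (62084, [true, true, false, true, true, true, false, true]), (62110, [true, true, true, false, true]), (62123, [true, false, false, false, true, true]), (62131, [true, false, true, true, true]), (62154, [true, true, false, true, true]), (62181, [true, false, false, false, true, true]), (62749, [true, false, true, true, true]), (62830, [true, false, false, true, true, true]), (62844, [true, false, true, true]), (62857, [false, true, true, false, false, true]), (62898, [true, true, false, true, true, true, true]), (62923, [true, false, true, true, false, true]), (62931, [true, true, true, false, false, true]), (62952, [true, false, false, true, false, true, true]), (63003, [false, true, false, true]), (63038, [true, true, false, true, false, true]), (63117, [true, true, true, false, true, true, true]), (63144, [true, true, true, false, true, true, true]), (63164, [true, true, false, true, true]), (63175, [true, false, false,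 true]), (63189, [true, true, true, false, false, true]), (63202, [true, true, true, false, true, true, true]), (63290, [false, true, false, true]), (63305, [true, false, false, true, true]), (63379, [true, false, true, true, false, false, true]), (63396, [true, true, true, false, true, true, true]), (63422, [true, true, false, true, true, false, true]), (63437, [true, false, false, true, true]), (63451, [true, true, true, false, false, true]), (63468, [true, false, false, true, true]), (63508, [true, false, true, true, true, false, true]), (63545, [true, false, false, false, false, true]), (63554, [true, false, false, false, true, true]), (63595, [true, true, true, false, false, true]), (63651, [false, true, true, false, false, true]), (63669, [true, true, false, false, false, false, true]), (63694, [true, true, false, true, true]), (63708, [true, false, true, true]), (63770, [true, true, false, false, false, true]), (63822, [false, true, false, false, false, true]), (63861, [true, true, false, false, true, false, true, true]), (63917, [true, true, false, true]), (63927, [true, false, false, false, true, true, true]), (63940, [true, false, true]), (63960, [true, true, false, true, true]), (63971, [false, false, true, false, false, true]), (64061, [false, true, false, true]), (64076, [true, false, false, true, true]), (64103, [true, false, false, true, true]), (64123, [false, false, true, false, false, true, true]), (64142, [false, true, true, true, false, true]), (64146, [false, true, false, true]), (64212, [true, true,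 false, true]), (64233, [true, true, false, false, true, true]), (64284, [true, true, false, true, true, true, true]), (64309, [true, false, true, true]), (64355, [true, true, false, true]), (64381, [false, true, false, false, false, true]), (64394, [false, false, true, true, false, false, true]), (64408, [true, false, false, true, true]), (64450, [true, false, false, true]), (64487, [true, true, false, true]), (64535, [true, true, false, true, true]), (64589, [true, false, false, true, true, true]), (64616, [true, false, true, false, false, true, true]), (64626, [true, false, false, false, false, true]), (64645, [true, true, true, false, true]), (64667, [true, false, true, true]), (64698, [true, false, true, false, true, true, true]), (64740, [true, true, false, true, true, true, true]), (64793, [true, true, false, false, true, false, true]), (64820, [true, true, true, false, true, true, true]), (64837, [true, true, false, false, false, false, true]), (64874, [true, false, false, true, true]), (64894, [true, false, false, false, false, true]), (64899, [false, true, true, false, true, true]), (64919, [false, true, true, false, true]), (64940, [true, false, true, true, false, false, true]), (65080, [true, true, true, false, true, false, false, true]), (65091, [false, true, true, false, false, true]), (65124, [true, true, false, true, true, false, true, true]), (65146, [true, false, true, true, true, false, true]), (65173, [true, true, false, true, false, false, true]), (65186, [true, true, true, false, true, true, true]),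 (65225, [true, true, false, false, false, true]), (65239, [true, true, true, false, false, true])]

theorem scan_ok15 : scan 65536 4096 tbl15 = true := by decide +kernel

theorem cert_all (j : ℕ) (hj : j < 65536) (ho : ord5 j = true) : ∃ w, cert j w = true := by
  rcases Nat.lt_or_ge j 4096 with h | h
  · exact scan_spec 4096 4096 tbl0 scan_ok0 j (by omega) h ho
  rcases Nat.lt_or_ge j 8192 with h | h
  · exact scan_spec 8192 4096 tbl1 scan_ok1 j (by omega) h ho
  rcases Nat.lt_or_ge j 12288 with h | h
  · exact scan_spec 12288 4096 tbl2 scan_ok2 j (by omega) h ho
  rcases Nat.lt_or_ge j 16384 with h | h
  · exact scan_spec 16384 4096 tbl3 scan_ok3 j (by omega) h ho
  rcases Nat.lt_or_ge j 20480 with h | h
  · exact scan_spec 20480 4096 tbl4 scan_ok4 j (by omega) h ho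
  rcases Nat.lt_or_ge j 24576 with h | h
  · exact scan_spec 24576 4096 tbl5 scan_ok5 j (by omega) h ho
  rcases Nat.lt_or_ge j 28672 with h | h
  · exact scan_spec 28672 4096 tbl6 scan_ok6 j (by omega) h ho
  rcases Nat.lt_or_ge j 32768 with h | h
  · exact scan_spec 32768 4096 tbl7 scan_ok7 j (by omega) h ho
  rcases Nat.lt_or_ge j 36864 with h | h
  · exact scan_spec 36864 4096 tbl8 scan_ok8 j (by omega) h ho
  rcases Nat.lt_or_ge j 40960 with h | h
  · exact scan_spec 40960 4096 tbl9 scan_ok9 j (by omega) h ho
  rcases Nat.lt_or_ge j 45056 with h | h
  · exact scan_spec 45056 4096 tbl10 scan_ok10 j (by omega) h ho
  rcases Nat.lt_or_ge j 49152 with h | h
  · exact scan_spec 49152 4096 tbl11 scan_ok11 j (by omega) h ho
  rcases Nat.lt_or_ge j 53248 with h | h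
  · exact scan_spec 53248 4096 tbl12 scan_ok12 j (by omega) h ho
  rcases Nat.lt_or_ge j 57344 with h | h
  · exact scan_spec 57344 4096 tbl13 scan_ok13 j (by omega) h ho
  rcases Nat.lt_or_ge j 61440 with h | h
  · exact scan_spec 61440 4096 tbl14 scan_ok14 j (by omega) h ho
  exact scan_spec 65536 4096 tbl15 scan_ok15 j (by omega) hj ho

theorem b0_inv1 : ∀ x < 16, actC b0c (actC b0ic x) = x := by decide +kernel
theorem b0_inv2 : ∀ x < 16, actC b0ic (actC b0c x) = x := by decide +kernel
theorem b0_pow7 : ∀ x < 16, (actC b0c)^[7] x = x := by decide +kernel
theorem b0_ne : actC b0c 1 ≠ 1 := by decide +kernel
theorem b0_fix : actC b0c uC = uC := by decide +kernel
theorem b0_orb1 : ∀ m < 16, m ≠ 0 → m ≠ uC →
    (∃ k < 7, (actC b0c)^[k] x1C = m) ∨ inO2 m = true := by decide +kernel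
theorem b0_orb2 : ∀ z < 16, ∀ m < 16, inO2 z = true → inO2 m = true →
    ∃ k < 7, (actC b0c)^[k] z = m := by decide +kernel

end Cfsg.Agent.Lib.Helper60.GL42
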